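/-
Certificate data of a coset enumeration.
-/
import Cfsg.Agent.Lib.M12Amalgam.CertL.Data

set_option autoImplicit false
set_option maxRecDepth 1000000

namespace CfsgM12Amalgam.CertL

open CfsgLib.CosetEnum

/-- Completion of the rows from 0. -/
def rows0 : List (List ℕ) := [[0x1, 0x1001, 0x2001, 0x3001, 0x4001, 0x5001], [0x7001, 0x6001, 0x1e00009002, 0xa001, 0xb001, 0x5001], [0x7001, 0x8001, 0x1f0000d002, 0xf001, 0x2b00011002, 0x2c00013002], [0x10001, 0x15001, 0x16001, 0xa001, 0x17001, 0x6a7d00018002], [0x2000019002, 0xc001, 0x200001c002, 0x3700021002, 0xb001, 0x200001b002], [0x10001, 0x23001, 0x25001, 0xf001, 0x3b00027002, 0x6a7400028002], [0x24001, 0x15001, 0x590002d002, 0x5c0002f002, 0x30001, 0x6a7e00032002], [0x26001, 0x4f00034002, 0x16001, 0x4f00035002, 0x4f00036002, 0x6a840003d002], [0x38001, 0x31001, 0x3e001, 0x39001, 0x17001, 0x6a8200040002], [0x24001, 0x23001, 0x5a00045002, 0x5b00048002, 0x3c001, 0x6a8000049002], [0x26001, 0x500004b002, 0x25001, 0x500004d002, 0x500004e002,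 0x6a6d00051002], [0x3a001, 0x31001, 0x5f0005d002, 0x60001, 0x30001, 0x6a6800064002], [0x3f001, 0x61001, 0x3e001, 0x62001, 0x63001, 0x6a8700070002]]

theorem rows0_ok : okRows data table 27272 0 rows0 = true := by decide +kernel

theorem rows0_len : rows0.length = 13 := by decide +kernel

end CfsgM12Amalgam.CertL
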